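import Groth.Prelude.Def_CurvBase
import Groth.Prelude.Def_ClSub2
import Groth.Agent.CurveDefAmple.Basic
import Groth.Agent.QCoh.PushLin
import Groth.Agent.DimOne.Completion
import Groth.Agent.Lib.CurveVanish

/-! The genus of a curve does not grow along finite birational morphisms. -/

noncomputable section

set_option linter.style.haveILetI false
set_option backward.isDefEq.respectTransparency false
set_option backward.isDefEq.respectTransparency.types false

universe u

open CategoryTheory CategoryTheory.Limits AlgebraicGeometry TopologicalSpace Opposite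
open Groth.Agent.PnCoh.Finite (mapLin)

namespace Groth.Agent.GenusLe

open Groth.Agent

variable (k : Type u) [Field k] {X Y : Scheme.{u}} [X.Over (Spec (CommRingCat.of k))]
  [Y.Over (Spec (CommRingCat.of k))] [IsProper (X ↘ Spec (CommRingCat.of k))]

include k in
theorem surjective_mapLin_one_of_cokernel (hdim : topologicalKrullDim X ≤ 1) {M N : X.Modules}
    (hM : Coh.IsQCoh M) (hN : Coh.IsQCoh N) (φ : M ⟶ N) {T : Set X} (hT : T.Finite)
    (hcl : ∀ x ∈ T, IsClosed ({x} : Set X)) (h0 : ∀ x, x ∉ T → Subsingleton ((cokernel φ).presheaf.stalk x)) :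
    Function.Surjective (mapLin k φ 1) := by
  haveI := CurveVanish.subsingleton_HH_of_finite hT hcl h0 0
  have hS := CurveSlope.shortExact_kernel_of_epi (Abelian.factorThruImage φ)
  have hS' := CurveSlope.shortExact_cokernel_of_mono (Abelian.image.ι φ)
  have hI : Coh.IsQCoh (Abelian.image φ) := QCoh.isQCoh_kernel hN (QCoh.isQCoh_cokernel hM hN φ) _
  haveI := DefAmple.subsingleton_HH_two k hdim (QCoh.isQCoh_kernel hM hI (Abelian.factorThruImage φ)) one_lt_two
  have h1 : Function.Surjective (mapLin k (Abelian.factorThruImage φ) 1) := fun y => by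
    obtain ⟨x, hx⟩ := PnCoh.Finite.exists_of_deltaLin_eq_zero k hS 1 (x := y) (Subsingleton.elim _ _)
    exact ⟨x, hx⟩
  have hexact : (ShortComplex.mk (Abelian.image.ι φ) (cokernel.π φ) (kernel.condition _)).ShortExact :=
    { exact := ShortComplex.exact_of_f_is_kernel _ (kernelIsKernel _)
      mono_f := inferInstanceAs (Mono (kernel.ι (cokernel.π φ)))
      epi_g := inferInstanceAs (Epi (cokernel.π φ)) }
  have h2 : Function.Surjective (mapLin k (Abelian.image.ι φ) 1) := fun y =>
    (CurveCohLib.ker_mapLin_g k hexact 1).le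
      (LinearMap.mem_ker.2 (Subsingleton.elim (mapLin k (cokernel.π φ) 1 y) 0))
  intro y
  obtain ⟨z, rfl⟩ := h2 y
  obtain ⟨x, rfl⟩ := h1 z
  exact ⟨x, (PnCoh.Finite.map_map (Y := X.toPresheafedSpace.carrier)
    ((Functor.map_comp _ _ _).symm.trans (congrArg _ (Abelian.image.fac φ))) 1 x).symm⟩

omit [IsProper (X ↘ Spec (CommRingCat.of k))] [X.Over (Spec (CommRingCat.of k))] [Y.Over (Spec (CommRingCat.of k))] in
/-- The cokernel of the structure map vanishes where the morphism is a closed immersion. -/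
theorem subsingleton_stalk_cokernel (f : Y ⟶ X) (U : X.Opens) (hfU : IsClosedImmersion (f ∣_ U)) (x : X) (hx : x ∈ U) :
    Subsingleton ((cokernel (ClSub.unitToPush f)).presheaf.stalk x) := by
  let φ := ClSub.unitToPush f
  refine subsingleton_of_forall_eq 0 fun q => ?_
  haveI : Epi ((DerSch.stalkFunctor X x).map (cokernel.π φ)) := inferInstance
  obtain ⟨m, rfl⟩ := (ModuleCat.epi_iff_surjective ((DerSch.stalkFunctor X x).map (cokernel.π φ))).1 inferInstance q
  obtain ⟨W, hxW, s, rfl⟩ := ((Scheme.Modules.pushforward f).obj (Coh.structureModule Y)).presheaf.germ_exist m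
  obtain ⟨_, ⟨V, hV, rfl⟩, hxV, hVW⟩ := X.isBasis_affineOpens.exists_subset_of_mem_open
    (show x ∈ W ⊓ U from ⟨hxW, hx⟩) (W ⊓ U).2
  have hVU : V ≤ U := fun z hz => (hVW hz).2
  have hVW' : V ≤ W := fun z hz => (hVW hz).1
  haveI := hfU
  have hV' : IsAffineOpen (U.ι ⁻¹ᵁ V) := hV.preimage_of_isOpenImmersion U.ι (by
    rw [Scheme.Opens.opensRange_ι]; exact hVU)
  have hsurj := (f ∣_ U).app_surjective _ hV'
  have himg : U.ι ''ᵁ (U.ι ⁻¹ᵁ V) = V := by
    rw [Scheme.Hom.image_preimage_eq_opensRange_inf, Scheme.Opens.opensRange_ι, inf_eq_right.2 hVU]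
  rw [morphismRestrict_app] at hsurj
  have hsurj' : Function.Surjective (f.app (U.ι ''ᵁ (U.ι ⁻¹ᵁ V))) := fun b => by
    obtain ⟨a, ha⟩ := hsurj (Y.presheaf.map (eqToHom (image_morphismRestrict_preimage f U (U.ι ⁻¹ᵁ V))).op b)
    exact ⟨a, (ConcreteCategory.bijective_of_isIso (Y.presheaf.map _)).1 ha⟩
  rw [himg] at hsurj'
  obtain ⟨a, ha⟩ := hsurj' (((Scheme.Modules.pushforward f).obj (Coh.structureModule Y)).presheaf.map (homOfLE hVW').op s)
  rw [← ((Scheme.Modules.pushforward f).obj (Coh.structureModule Y)).presheaf.germ_res_apply (homOfLE hVW') x hxV s]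
  refine ((DerSch.stalkFunctor_map_germ x (cokernel.π φ) V hxV _).trans ?_)
  have hz : (cokernel.π φ).app V (φ.app V (show Γ(X, V) from a)) = 0 :=
    congr(($(cokernel.condition φ)).app V (show Γ(X, V) from a))
  have : φ.app V (show Γ(X, V) from a) =
      ((Scheme.Modules.pushforward f).obj (Coh.structureModule Y)).presheaf.map (homOfLE hVW').op s := ha
  rw [← this, hz, map_zero]

include k in
/-- Finite morphism with surjective structure map over a dense open. -/
theorem genus_le (hdim : topologicalKrullDim X ≤ 1) (f : Y ⟶ X) [IsFinite f]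
    (hf : f ≫ (X ↘ Spec (CommRingCat.of k)) = Y ↘ Spec (CommRingCat.of k))
    (U : X.Opens) (hU : Dense (U : Set X)) (hfU : IsClosedImmersion (f ∣_ U)) :
    Curv2.genus k Y ≤ Curv2.genus k X := by
  haveI := CurveCohLib.isNoetherian_of_proper (k := k) (X := X)
  haveI : IsLocallyNoetherian Y := LocallyOfFiniteType.isLocallyNoetherian f
  have hng : ∀ x ∈ ((U : Set X))ᶜ, ¬ DimOne.IsGen x := fun x hx hg => hx (DimOne.mem_range_of_isGen U.2 hU hg)
  have hfin := DimOne.finite_of_forall_not_isGen hdim U.2.isClosed_compl hng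
  have hOY : Coh.IsCoh (Coh.structureModule Y) := QCoh.isCoh_structureModule'
  have hOX : Coh.IsCoh (Coh.structureModule X) := QCoh.isCoh_structureModule'
  have hP : Coh.IsCoh ((Scheme.Modules.pushforward f).obj (Coh.structureModule Y)) :=
    QCoh.isCoh_pushforward_finite f hOY
  let φ := ClSub.unitToPush f
  have h0 : ∀ x, x ∉ ((U : Set X))ᶜ → Subsingleton ((cokernel φ).presheaf.stalk x) := fun x hx => by
    exact subsingleton_stalk_cokernel f U hfU x (not_not.1 hx)
  have hsurj := surjective_mapLin_one_of_cokernel k hdim hOX.1 hP.1 φ hfin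
    (fun x hx => DimOne.isClosed_singleton hdim (hng x hx)) h0
  haveI := CurveCohLib.finite_HH (k := k) hOX 1
  have h1 := LinearMap.finrank_le_finrank_of_surjective hsurj
  obtain ⟨e⟩ := QCoh.HH_push_linear f (Coh.toGlobal (X ↘ Spec (CommRingCat.of k)))
    (Coh.toGlobal (Y ↘ Spec (CommRingCat.of k))) (fun a => by
      rw [← hf]; rfl) hOY.1 1
  exact (LinearEquiv.finrank_eq e).le.trans h1

end Groth.Agent.GenusLe
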